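import Cfsg.Agent.H386.Rg.D2
import Cfsg.Agent.H383.Rg.Fpf

/-!
# S3691, F-D+2 (d): involutions and quadratic forms on `v^⊥ / v`, characteristic 2 (helper383)

* `aniso_of_tr` : `Q u ≠ 0`, `(u, w) = 1`, trace of `Q u Q w` one: `⟨u, w⟩` is anisotropic;
* `no_ctype` : `m` odd: an involution `b` of `K` has `(w, b w) = 0` for all `w`;
* `fix_form` : an element of `K` fixing `v` and the form attached to `w`, `⟨v, w⟩` anisotropic, is trivial.
-/

set_option autoImplicit false
set_option linter.unusedSectionVars false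

namespace Cfsg.Agent.H383.D2

open Module QuadraticMap
open Cfsg.Agent.LieClassical.OrthCore Cfsg.Agent.LieClassical.OrthTrans
open Cfsg.Agent.H383.Rg Cfsg.Agent.H386.Rg
open Cfsg.Agent.H934.ArfO (T_eq_zero T_sq exists_T_one)

local notation "Tr" => Cfsg.Agent.H934.ArfO.T

universe u v

variable {F : Type u} {V : Type v} [Field F] [Finite F] [CharP F 2] [AddCommGroup V] [Module F V] [FiniteDimensional F V]
  {Q : QuadraticForm F V}

theorem pol_self (x : V) : polar Q x x = 0 := by
  rw [polar_self', CharTwo.two_eq_zero, zero_mul]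

/-- an anisotropic plane -/
theorem aniso_of_tr {u w : V} (huw : polar Q u w = 1) (h : Tr (Q u * Q w) = 1) : Aniso Q u w := by
  intro a b hab
  rw [Q_add, QuadraticMap.map_smul, QuadraticMap.map_smul, polar_smul_left, polar_smul_right, huw, smul_eq_mul, smul_eq_mul,
    smul_eq_mul, smul_eq_mul, mul_one] at hab
  have hu : Q u ≠ 0 := by
    intro h0
    rw [h0, zero_mul, map_zero] at h
    exact zero_ne_one h
  by_cases hb : b = 0
  · rw [hb] at hab ⊢
    refine ⟨?_, rfl⟩
    have h1 : a * a * Q u = 0 := by linear_combination hab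
    rcases mul_eq_zero.1 h1 with h2 | h2
    · exact mul_self_eq_zero.1 h2
    · exact absurd h2 hu
  · exfalso
    have h1 : Tr (Q u * Q w) = 0 := by
      rw [T_eq_zero]
      refine ⟨Q u * (a / b), ?_⟩
      field_simp
      have h2 := add_self' (b * b * Q w)
      linear_combination hab - h2
    rw [h1] at h
    exact zero_ne_one h

theorem tr_of_not_aniso {u w : V} (huw : polar Q u w = 1) (h : ¬ Aniso Q u w) : Tr (Q u * Q w) = 0 := by
  by_contra h1
  exact h (aniso_of_tr huw (two_eq h1))

/-- the bilinear form of `Q` -/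
noncomputable def fQ (Q : QuadraticForm F V) : LinearMap.BilinForm F V := polarBilin Q

theorem fQ_apply (x y : V) : fQ Q x y = polar Q x y := rfl

variable {p f m : ℕ} {K : Subgroup (V ≃ₗ[F] V)}

theorem pol_map (h : Cfsg.Agent.H386.Rg.D2 Q p f m K) {k : V ≃ₗ[F] V} (hk : k ∈ K) (x y : V) :
    polar Q (k x) (k y) = polar Q x y := polar_map (h.iso k hk) x y

/-- **no involutions of type `c`** -/
theorem no_ctype (h : Cfsg.Agent.H386.Rg.D2 Q p f m K) (hm : Odd m) {b : V ≃ₗ[F] V} (hb : b ∈ K) (hbb : b * b = 1)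
    {w : V} (hw : polar Q w (b w) ≠ 0) : False := by
  have hbbx : ∀ x, b (b x) = x := fun x => by
    have := congrArg (fun g : V ≃ₗ[F] V => g x) hbb
    exact this
  set I : Submodule F V := LinearMap.range ((b : V →ₗ[F] V) - LinearMap.id) with hI
  set C : Submodule F V := LinearMap.ker ((b : V →ₗ[F] V) - LinearMap.id) with hC
  have hmemC : ∀ x, x ∈ C ↔ b x = x := by
    intro x
    rw [hC, LinearMap.mem_ker, LinearMap.sub_apply, sub_eq_zero]
    rfl
  have hIC : I ≤ C := by
    rintro _ ⟨x, rfl⟩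
    rw [hmemC]
    change b (b x - x) = b x - x
    rw [map_sub, hbbx, vsub F, vsub F, add_comm]
  have hdim := LinearMap.finrank_range_add_finrank_ker ((b : V →ₗ[F] V) - LinearMap.id)
  rw [← hI, ← hC, h.dim] at hdim
  have heven := h.even b hb
  rw [← hI] at heven
  have hle := Submodule.finrank_mono hIC
  have hCm : m < finrank F C := by
    obtain ⟨k, hk⟩ := hm
    obtain ⟨j, hj⟩ := heven
    omega
  -- `C` is not totally isotropic
  obtain ⟨z1, hz1, z2, hz2, hz⟩ : ∃ z1 ∈ C, ∃ z2 ∈ C, polar Q z1 z2 ≠ 0 := by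
    by_contra hcon
    push Not at hcon
    have hnd : (fQ Q).Nondegenerate := by
      refine ⟨fun x hx => h.nd x fun y => hx y, fun x hx => h.nd x fun y => ?_⟩
      rw [polar_comm]
      exact hx y
    have h1 := LinearMap.BilinForm.finrank_orthogonal hnd C
    have h2 : C ≤ (fQ Q).orthogonal C := by
      intro x hx y hy
      exact hcon y hy x hx
    have h3 := Submodule.finrank_mono h2
    rw [h1, h.dim] at h3
    omega
  -- `x0`
  obtain ⟨x0, hx0⟩ : ∃ x0, x0 = b w - w := ⟨_, rfl⟩
  have hx0C : b x0 = x0 := by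
    rw [hx0]
    exact (hmemC _).1 (hIC ⟨w, rfl⟩)
  have hx0o : ∀ z, b z = z → polar Q x0 z = 0 := by
    intro z hz
    have h1 := pol_map h hb w z
    rw [hz] at h1
    rw [hx0, polar_sub_left, h1, sub_self]
  have hQx0 : Q x0 ≠ 0 := by
    rw [hx0, vsub F, Q_add, h.iso b hb, polar_comm Q (b w) w, add_self', zero_add]
    exact hw
  rw [hmemC] at hz1 hz2
  obtain ⟨z2', hz2'⟩ : ∃ z, z = (polar Q z1 z2)⁻¹ • z2 := ⟨_, rfl⟩
  have hbz2' : b z2' = z2' := by rw [hz2', map_smul, hz2]
  have hz12 : polar Q z1 z2' = 1 := by rw [hz2', polar_smul_right, smul_eq_mul, inv_mul_cancel₀ hz]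
  obtain ⟨c, hc⟩ := exists_T_one F
  obtain ⟨t, ht⟩ := exists_sq (F := F) ((Q z1 + 1) / Q x0)
  obtain ⟨s, hs⟩ := exists_sq (F := F) ((Q z2' + c) / Q x0)
  have hQ1 : Q (z1 + t • x0) = 1 := by
    rw [Q_add, QuadraticMap.map_smul, polar_smul_right, polar_comm Q z1 x0, hx0o z1 hz1, smul_zero, add_zero, smul_eq_mul,
      ← pow_two, ht, div_mul_cancel₀ _ hQx0, ← add_assoc, add_self', zero_add]
  have hQ2 : Q (z2' + s • x0) = c := by
    rw [Q_add, QuadraticMap.map_smul, polar_smul_right, polar_comm Q z2' x0, hx0o z2' hbz2', smul_zero, add_zero,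
      smul_eq_mul, ← pow_two, hs, div_mul_cancel₀ _ hQx0, ← add_assoc, add_self', zero_add]
  have hQ12 : polar Q (z1 + t • x0) (z2' + s • x0) = 1 := by
    simp only [polar_add_left, polar_add_right, polar_smul_left, polar_smul_right, pol_self, polar_comm Q z1 x0,
      hx0o z1 hz1, hx0o z2' hbz2', hz12, smul_zero, add_zero]
  refine h.fix b hb ?_ _ _ (aniso_of_tr hQ12 (by rw [hQ1, hQ2, one_mul, hc])) ?_ ?_
  · rintro rfl
    apply hw
    exact pol_self w
  · rw [map_add, map_smul, hz1, hx0C]
  · rw [map_add, map_smul, hbz2', hx0C]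

/-- the perpendicular space of `v^⊥` -/
theorem perp_perp (hnd : ∀ v : V, (∀ w, polar Q v w = 0) → v = 0) {v w0 : V} (hvw : polar Q v w0 = 1) {x : V}
    (hx : ∀ z, polar Q v z = 0 → polar Q x z = 0) : x = polar Q x w0 • v := by
  rw [← sub_eq_zero]
  apply hnd
  intro z
  have h1 : polar Q v (z - polar Q v z • w0) = 0 := by
    rw [polar_sub_right, polar_smul_right, hvw, smul_eq_mul, mul_one, sub_self]
  have h2 := hx _ h1
  rw [polar_sub_right, polar_smul_right, smul_eq_mul, sub_eq_zero] at h2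
  rw [polar_sub_left, polar_smul_left, smul_eq_mul, h2]
  ring

theorem exists_w0 (hnd : ∀ v : V, (∀ w, polar Q v w = 0) → v = 0) {v : V} (hv : v ≠ 0) : ∃ w0, polar Q v w0 = 1 := by
  by_contra hcon
  push Not at hcon
  apply hv
  apply hnd
  intro w
  by_contra h1
  exact hcon ((polar Q v w)⁻¹ • w) (by rw [polar_smul_right, smul_eq_mul, inv_mul_cancel₀ h1])

/-- **an element fixing `v` and the form attached to `w`** -/
theorem fix_form (h : Cfsg.Agent.H386.Rg.D2 Q p f m K) (hm : Odd m) {v w : V} (hv : Q v ≠ 0) (hvw : polar Q v w = 1)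
    (han : Aniso Q v w) {b : V ≃ₗ[F] V} (hb : b ∈ K) (hbv : b v = v)
    (hf : ∀ x, polar Q v x = 0 → polar Q w (b x) = polar Q w x) : b = 1 := by
  by_contra hb1
  -- `b w = w + c v`
  have h1 : ∀ z, polar Q v z = 0 → polar Q (b w - w) z = 0 := by
    intro z hz
    obtain ⟨x, rfl⟩ := b.surjective z
    have hx : polar Q v x = 0 := by
      rw [← pol_map h hb, hbv]
      exact hz
    rw [polar_sub_left, pol_map h hb, hf x hx, sub_self]
  obtain ⟨c, hc⟩ : ∃ c : F, b w = w + c • v := by
    refine ⟨polar Q (b w - w) w, ?_⟩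
    rw [← perp_perp h.nd hvw h1]
    abel
  by_cases hc0 : c = 0
  · rw [hc0, zero_smul, add_zero] at hc
    exact h.fix b hb hb1 v w han hbv hc
  · have hbbw : (b * b) w = w := by
      change b (b w) = w
      rw [hc, map_add, map_smul, hbv, hc, add_assoc, vadd_self F, add_zero]
    have hbbv : (b * b) v = v := by
      change b (b v) = v
      rw [hbv, hbv]
    have hbb : b * b = 1 := by
      by_contra hne
      exact h.fix (b * b) (K.mul_mem hb hb) hne v w han hbbv hbbw
    refine no_ctype h hm hb hbb (w := w) ?_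
    rw [hc, polar_add_right, pol_self, zero_add, polar_smul_right, polar_comm, hvw, smul_eq_mul, mul_one]
    exact hc0

/-- **faithful on `v^⊥ / v`** -/
theorem faithful (h : Cfsg.Agent.H386.Rg.D2 Q p f m K) (hm : Odd m) {v : V} (hv : Q v ≠ 0) {k : V ≃ₗ[F] V} (hk : k ∈ K)
    (hkv : k v = v) (hf : ∀ x, polar Q v x = 0 → ∃ c : F, k x = x + c • v) : k = 1 := by
  have hv0 : v ≠ 0 := by
    rintro rfl
    exact hv (QuadraticMap.map_zero Q)
  obtain ⟨w, hvw⟩ := exists_w0 h.nd hv0
  have h1 : ∀ x, polar Q v x = 0 → k x = x := by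
    intro x hx
    obtain ⟨c, hc⟩ := hf x hx
    have h2 := h.iso k hk x
    rw [hc, Q_add, QuadraticMap.map_smul, polar_smul_right, polar_comm, hx, smul_zero, add_zero, smul_eq_mul] at h2
    have h3 : c * c * Q v = 0 := by linear_combination h2
    have h4 : c = 0 := by
      rcases mul_eq_zero.1 h3 with h5 | h5
      · exact mul_self_eq_zero.1 h5
      · exact absurd h5 hv
    rw [hc, h4, zero_smul, add_zero]
  obtain ⟨c, hc⟩ : ∃ c : F, k w = w + c • v := by
    refine ⟨polar Q (k w - w) w, ?_⟩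
    rw [← perp_perp h.nd hvw (x := k w - w) ?_]
    · abel
    · intro z hz
      have h2 := pol_map h hk w z
      rw [h1 z hz] at h2
      rw [polar_sub_left, h2, sub_self]
  have hgen : ∀ x, k x = x + (polar Q v x * c) • v := by
    intro x
    have h2 : polar Q v (x - polar Q v x • w) = 0 := by
      rw [polar_sub_right, polar_smul_right, hvw, smul_eq_mul, mul_one, sub_self]
    have h3 := h1 _ h2
    rw [map_sub, map_smul, hc, smul_add, smul_smul] at h3
    have h4 : k x = (k x - (polar Q v x • w + (polar Q v x * c) • v)) + (polar Q v x • w + (polar Q v x * c) • v) := by abel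
    rw [h4, h3]
    abel
  by_cases hc0 : c = 0
  · apply LinearEquiv.ext
    intro x
    rw [hgen, hc0, mul_zero, zero_smul, add_zero]
    rfl
  · exfalso
    have hkk : k * k = 1 := by
      apply LinearEquiv.ext
      intro x
      change k (k x) = x
      rw [hgen x, map_add, map_smul, hkv, hgen x, add_assoc, vadd_self F, add_zero]
    refine no_ctype h hm hk hkk (w := w) ?_
    rw [hc, polar_add_right, pol_self, zero_add, polar_smul_right, polar_comm, hvw, smul_eq_mul, mul_one]
    exact hc0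

end Cfsg.Agent.H383.D2
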